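import Cfsg.Agent.H35.M24Two.Data
import Cfsg.Agent.H729.PairMathieu
import Cfsg.Agent.H865.ThreeClasses
import Cfsg.Agent.Lib.Cores

/-!
# Centralizers in `M24` (helper35)

* `card_cent_le_mul` : a bound for centralizers, with a few fixed base points;
* `core_three` : `O_2(C(w)) = 1` for the elements `w` of order 3.
-/

set_option autoImplicit false
set_option linter.unusedSectionVars false

namespace Cfsg.Agent.H35.M24Two

open Cfsg Subgroup
open Cfsg.Agent.SporadicA.GolayBase Cfsg.Agent.SporadicA.GolayPerm
open Cfsg.Agent.SporadicStructure.M24El Cfsg.Agent.H729.Trans Cfsg.Agent.H729.MData Cfsg.Agent.H729.Count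
open Cfsg.Agent.H729.M24Deg

instance fin24 : Finite M24 := Nat.finite_of_card_ne_zero (by rw [card_M24]; norm_num)

theorem im_inv_mul {g h : M24} {b : ℕ} (hb : b < 24) (e : im h b = im g b) : im (g⁻¹ * h) b = b := by
  have h1 : h • pt b = g • pt b := idx_injective e
  have h2 : (g⁻¹ * h) • pt b = pt b := by rw [mul_smul, h1, inv_smul_smul]
  show idx ((g⁻¹ * h) • pt b) = b
  rw [h2, idx_pt hb]

/-- **Bound for a centralizer, with base points.** -/
theorem card_cent_le_mul {p c : ℕ} {wd : List (ℕ × ℕ)} {sts : List (ℕ × List ℕ × List (List (ℕ × ℕ)))}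
    (h : pre p c wd sts = true) (bs : List ℕ) (hbs : ∀ b ∈ bs, b < 24) (T : Finset (List ℕ))
    (hT : ∀ z : M24, z * el c = el c * z → bs.map (im z) ∈ T)
    (hst : ∀ st ∈ sts, st.2.1 = List.range 24 ∨ (st.1 ∈ bs ∧ st.1 ∈ st.2.1)) :
    Nat.card (centralizer ({el c} : Set M24)) ≤ T.card * (tl p c c wd sts).length := by
  classical
  have hc := ok_of_pre h
  have : Fintype (centralizer ({el c} : Set M24)) := Fintype.ofFinite _
  let f : centralizer ({el c} : Set M24) → List ℕ := fun z => bs.map (im (z : M24))
  have hcomm : ∀ z : centralizer ({el c} : Set M24), (z : M24) * el c = el c * z :=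
    fun z => mem_centralizer_singleton_iff.1 z.2
  have h1 : ∀ t ∈ (Finset.univ : Finset (centralizer ({el c} : Set M24))).image f,
      (Finset.univ.filter fun z => f z = t).card ≤ (tl p c c wd sts).length := by
    intro t ht
    obtain ⟨z0, -, rfl⟩ := Finset.mem_image.1 ht
    refine le_trans ?_ (List.toFinset_card_le _)
    refine Finset.card_le_card_of_injOn (fun z => packOf (((z0⁻¹ * z : centralizer ({el c} : Set M24)) : M24) : Equiv.Perm GolayPt))
      ?_ ?_
    · intro z hz
      have hz' : f z = f z0 := (Finset.mem_filter.1 hz).2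
      rw [Finset.mem_coe, List.mem_toFinset]
      refine packOf_mem_tl h hc _ (hcomm _) fun st hst' => ?_
      rcases hst st hst' with h2 | ⟨h2, h3⟩
      · rw [h2]
        exact List.mem_range.2 (im_lt _ _)
      · have h4 : im ((z0 : M24)⁻¹ * z) st.1 = st.1 := by
          apply im_inv_mul (hbs _ h2)
          exact (List.map_inj_left.1 hz') _ h2
        have h5 : ((z0⁻¹ * z : centralizer ({el c} : Set M24)) : M24) = (z0 : M24)⁻¹ * z := rfl
        rw [h5, h4]
        exact h3
    · intro x _ y _ hxy
      have h2 := packOf_inj hxy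
      exact mul_left_cancel (Subtype.ext h2)
  have h2 := Finset.card_le_mul_card_image (f := f) Finset.univ _ h1
  rw [Finset.card_univ, ← Nat.card_eq_fintype_card] at h2
  refine h2.trans ?_
  rw [mul_comm]
  refine Nat.mul_le_mul_right _ (Finset.card_le_card ?_)
  intro t ht
  obtain ⟨z, -, rfl⟩ := Finset.mem_image.1 ht
  exact hT z (hcomm z)

theorem card_cent_le_one {p c b : ℕ} {wd : List (ℕ × ℕ)} {sts : List (ℕ × List ℕ × List (List (ℕ × ℕ)))}
    (h : pre p c wd sts = true) (hb : b < 24)
    (hst : (sts.all fun st => decide (st.2.1 = List.range 24) || (decide (st.1 = b) && decide (st.1 ∈ st.2.1))) = true) :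
    Nat.card (centralizer ({el c} : Set M24)) ≤ 24 * (tl p c c wd sts).length := by
  refine (card_cent_le_mul h [b] (fun x hx => ?_) ((Finset.range 24).image fun i => [i]) (fun z _ => ?_)
    (fun st h1 => ?_)).trans (Nat.mul_le_mul_right _ ?_)
  · rw [List.mem_singleton.1 hx]; exact hb
  · rw [Finset.mem_image]
    exact ⟨im z b, Finset.mem_range.2 (im_lt _ _), rfl⟩
  · have h2 := List.all_eq_true.1 hst st h1
    rw [Bool.or_eq_true, Bool.and_eq_true] at h2
    rcases h2 with h2 | ⟨h2, h3⟩
    · exact Or.inl (of_decide_eq_true h2)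
    · exact Or.inr ⟨List.mem_singleton.2 (of_decide_eq_true h2), of_decide_eq_true h3⟩
  · exact Finset.card_image_le.trans (by rw [Finset.card_range])

theorem card_4B : Nat.card (centralizer ({el c4B} : Set M24)) ≤ 192 := by
  have := card_cent_le_one pre4B (b := b4B) (by decide) (by decide +kernel)
  rwa [len4B] at this

theorem card_4C : Nat.card (centralizer ({el c4C} : Set M24)) ≤ 96 := by
  have := card_cent_le_one pre4C (b := b4C) (by decide) (by decide +kernel)
  rwa [len4C] at this

theorem card_8A : Nat.card (centralizer ({el c8A} : Set M24)) ≤ 24 := by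
  have := card_cent_le_one pre8A (b := b8A) (by decide) (by decide +kernel)
  rwa [len8A] at this

/-! ### elements of order 3 -/

/-- the fixed points of `A` -/
def fixA : List ℕ := [1, 12, 13, 18, 19, 23]

/-- the 4-tuples of distinct fixed points of `A` -/
def tup : List (List ℕ) :=
  (fixA.flatMap fun a => fixA.flatMap fun b => fixA.flatMap fun c => fixA.map fun d => [a, b, c, d]).filter
    fun l => decide l.Nodup

theorem fix_mem {i : ℕ} (hi : i < 24) (h : papp H865.Three.A i = i) : i ∈ fixA := by
  have h1 : ((List.range 24).all fun i => !(Nat.beq (papp H865.Three.A i) i) || decide (i ∈ fixA)) = true := by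
    decide +kernel
  have h2 := List.all_eq_true.1 h1 i (List.mem_range.2 hi)
  rw [h, Nat.beq_refl] at h2
  simpa using h2

theorem card_A : Nat.card (centralizer ({el H865.Three.A} : Set M24)) ≤ 1080 := by
  have hA := H865.Three.okA
  have hf24 : ∀ i ∈ f4, i < 24 := by decide
  have hfA : (f4.all fun i => Nat.beq (papp H865.Three.A i) i) = true := by decide +kernel
  refine (card_cent_le_mul preA f4 hf24 tup.toFinset (fun z hz => ?_) (fun st h1 => ?_)).trans ?_
  · have h1 : ∀ i ∈ f4, im z i ∈ fixA := by
      intro i hi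
      apply fix_mem (im_lt _ _)
      have h3 := im_papp hA hA z hz (hf24 i hi)
      rw [← h3, Nat.eq_of_beq_eq_true (List.all_eq_true.1 hfA i hi)]
    rw [List.mem_toFinset, tup, List.mem_filter]
    constructor
    · simp only [List.mem_flatMap, List.mem_map]
      simp only [f4, List.map_cons, List.map_nil]
      refine ⟨_, h1 _ ?_, _, h1 _ ?_, _, h1 _ ?_, _, h1 _ ?_, rfl⟩ <;> decide
    · apply decide_eq_true
      apply List.Nodup.map_on
      · intro x hx y hy hxy
        exact im_inj z (hf24 x hx) (hf24 y hy) hxy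
      · decide
  · have h2 : (stA.all fun st => decide (st.2.1 = List.range 24) || (decide (st.1 ∈ f4) && decide (st.1 ∈ st.2.1))) = true := by
      decide +kernel
    have h2 := List.all_eq_true.1 h2 st h1
    rw [Bool.or_eq_true, Bool.and_eq_true] at h2
    rcases h2 with h2 | ⟨h2, h3⟩
    · exact Or.inl (of_decide_eq_true h2)
    · exact Or.inr ⟨of_decide_eq_true h2, of_decide_eq_true h3⟩
  · rw [lenA]
    have h3 : tup.toFinset.card ≤ tup.length := List.toFinset_card_le _
    have h4 : tup.length = 360 := by decide +kernel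
    omega

/-- a fixed-point-free element of prime order on the 2-core -/
theorem card_core_modEq {G : Type*} [Group G] [Finite G] {w z : G} {q : ℕ} (hq : q.Prime) (hzw : z * w = w * z)
    (hz : orderOf z = q) {n : ℕ} (hn : Odd n) (h : ∀ g : G, Commute g (z * w) → g ^ n = 1) :
    Nat.card (pCore 2 (centralizer ({w} : Set G))) ≡ 1 [MOD q] := by
  have := Fact.mk hq
  set C := centralizer ({w} : Set G) with hC
  have hzC : z ∈ C := mem_centralizer_singleton_iff.2 hzw
  set R := pCore 2 C with hR
  have hRn : R.Normal := Lib.Cores.pCore_normal 2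
  have hR2 : IsPGroup 2 R := Lib.Cores.pCore_isPGroup 2
  set ζ : C := ⟨z, hzC⟩ with hζ
  have hζo : orderOf ζ = q := by rw [← hz, ← Subgroup.orderOf_coe]
  let _ : MulAction (zpowers ζ) R :=
    MulAction.compHom R ((MulAut.conjNormal : C →* MulAut R).comp (zpowers ζ).subtype)
  have hsm : ∀ (s : zpowers ζ) (r : R), ((s • r : R) : C) = (s : C) * r * (s : C)⁻¹ := fun s r => rfl
  have hP : IsPGroup q (zpowers ζ) := IsPGroup.of_card (n := 1) (by rw [Nat.card_zpowers, hζo, pow_one])
  have h1 := hP.card_modEq_card_fixedPoints R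
  have h2 : Nat.card (MulAction.fixedPoints (zpowers ζ) R) = 1 := by
    rw [Nat.card_eq_one_iff_unique]
    refine ⟨⟨fun a b => ?_⟩, ⟨⟨1, fun s => ?_⟩⟩⟩
    · have key : ∀ r : MulAction.fixedPoints (zpowers ζ) R, (r : R) = 1 := by
        rintro ⟨r, hr⟩
        have h3 := congrArg (fun x : R => (x : C)) (hr ⟨ζ, mem_zpowers ζ⟩)
        simp only [hsm] at h3
        have h4 : z * ((r : C) : G) * z⁻¹ = ((r : C) : G) := congrArg (fun x : C => (x : G)) h3
        have h5 : Commute (((r : C) : G)) z := by
          rw [mul_inv_eq_iff_eq_mul] at h4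
          exact h4.symm
        have h6 : Commute (((r : C) : G)) w := mem_centralizer_singleton_iff.1 (r : C).2
        have h7 := h _ (h5.mul_right h6)
        obtain ⟨k, hk⟩ := hR2 r
        have h8 : (((r : C) : G)) ^ 2 ^ k = 1 := congrArg (fun x : R => (((x : C) : G))) hk
        have h9 : orderOf (((r : C) : G)) ∣ 1 := by
          have h10 : Nat.Coprime (2 ^ k) n := (Nat.coprime_pow_left_iff_of_pos' hn)
          rw [← h10]
          exact Nat.dvd_gcd (orderOf_dvd_of_pow_eq_one h8) (orderOf_dvd_of_pow_eq_one h7)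
        have h10 : (((r : C) : G)) = 1 := orderOf_eq_one_iff.1 (Nat.dvd_one.1 h9)
        exact Subtype.ext (Subtype.ext h10)
      exact Subtype.ext ((key a).trans (key b).symm)
    · apply Subtype.ext
      rw [hsm]
      simp
  rw [h2] at h1
  exact h1
where
  Nat.coprime_pow_left_iff_of_pos' {k n : ℕ} (hn : Odd n) : Nat.Coprime (2 ^ k) n :=
    Nat.Coprime.pow_left k ((Nat.coprime_two_left).2 hn)


theorem commute_of_pcomp {x y : ℕ} (hx : ok x = true) (hy : ok y = true)
    (h : Nat.beq (pcomp x y) (pcomp y x) = true) : el x * el y = el y * el x := by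
  rw [← el_pcomp hx hy, ← el_pcomp hy hx, Nat.eq_of_beq_eq_true h]

theorem ok_z5 : ok z5 = true := by decide +kernel
theorem ok_z7 : ok z7 = true := by decide +kernel
theorem ok_t1 : ok t1 = true := by decide +kernel
theorem ok_t2 : ok t2 = true := by decide +kernel
theorem ok_gB : ok gB = true := by decide +kernel

/-- the 2-core and a bound: a number `2 ^ k ≡ 1` modulo 5 -/
theorem core_A : pCore 2 (centralizer ({el H865.Three.A} : Set M24)) = ⊥ := by
  have hA := H865.Three.okA
  have hcomm := commute_of_pcomp ok_z5 hA (by decide +kernel)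
  have ho : orderOf (el z5) = 5 :=
    orderOf_el p5 ok_z5 (by decide +kernel) 0 (by norm_num) (by decide +kernel)
  have h15 : el z5 * el H865.Three.A = el c15 := by
    rw [← el_pcomp ok_z5 hA]
    exact congrArg el (Nat.eq_of_beq_eq_true (by decide +kernel))
  have hmod := card_core_modEq (w := el H865.Three.A) (z := el z5) p5 hcomm ho (n := 15) (by decide) (fun g hg => by
    rw [h15] at hg
    exact H729.PairMathieu.pow_eq_one_of_list (MonoidHom.id M24) Function.injective_id pre15 (x := el c15) rfl
      (fun g => st_triv (by decide +kernel) g) all15 hg)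
  set C := centralizer ({el H865.Three.A} : Set M24) with hC
  have h27 : 27 ∣ Nat.card C := by
    have h := length_dvd_card_centralizer hA (L := H865.Three.L) (by decide +kernel)
    exact h
  have h5 : 5 ∣ Nat.card C := by
    have h := orderOf_dvd_natCard (⟨el z5, mem_centralizer_singleton_iff.2 hcomm⟩ : C)
    rwa [← Subgroup.orderOf_coe, ho] at h
  have hle := card_A
  obtain ⟨k, hk⟩ := IsPGroup.iff_card.1 (Lib.Cores.pCore_isPGroup (G := C) 2)
  have hd : 2 ^ k ∣ Nat.card C := by rw [← hk]; exact card_subgroup_dvd_card _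
  rw [hk] at hmod
  have h135 : 135 ∣ Nat.card C := by
    have := Nat.Coprime.mul_dvd_of_dvd_of_dvd (by norm_num : Nat.Coprime 27 5) h27 h5
    simpa using this
  have hdd : 2 ^ k * 135 ∣ Nat.card C :=
    Nat.Coprime.mul_dvd_of_dvd_of_dvd (Nat.Coprime.pow_left k (by norm_num)) hd h135
  have h6 := (Nat.le_of_dvd Nat.card_pos hdd).trans hle
  have hk3 : k ≤ 3 := by
    by_contra h
    push Not at h
    have : 2 ^ 4 ≤ 2 ^ k := Nat.pow_le_pow_right (by norm_num) h
    omega
  have hk0 : k = 0 := by
    unfold Nat.ModEq at hmod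
    interval_cases k <;> omega
  rw [hk0, pow_zero] at hk
  exact Subgroup.card_eq_one.1 hk

theorem core_c3 : pCore 2 (centralizer ({el c3} : Set M24)) = ⊥ := by
  have hcomm := commute_of_pcomp ok_z7 ok3 (by decide +kernel)
  have p7 : Nat.Prime 7 := by norm_num
  have ho : orderOf (el z7) = 7 :=
    orderOf_el p7 ok_z7 (by decide +kernel) 2 (by norm_num) (by decide +kernel)
  have h21 : el z7 * el c3 = el c21 := by
    rw [← el_pcomp ok_z7 ok3]
    exact congrArg el (Nat.eq_of_beq_eq_true (by decide +kernel))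
  have hmod := card_core_modEq (w := el c3) (z := el z7) p7 hcomm ho (n := 21) (by decide) (fun g hg => by
    rw [h21] at hg
    exact H729.PairMathieu.pow_eq_one_of_list (MonoidHom.id M24) Function.injective_id pre21 (x := el c21) rfl
      (fun g => st_triv (by decide +kernel) g) all21 hg)
  set C := centralizer ({el c3} : Set M24) with hC
  have h9 : 9 ∣ Nat.card C := by
    have h := length_dvd_card_centralizer ok3 (L := l9) (by decide +kernel)
    exact h
  have h7 : 7 ∣ Nat.card C := by
    have h := orderOf_dvd_natCard (⟨el z7, mem_centralizer_singleton_iff.2 hcomm⟩ : C)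
    rwa [← Subgroup.orderOf_coe, ho] at h
  have hle : Nat.card C ≤ 504 := cent3
  have hRn : (pCore 2 C).Normal := Lib.Cores.pCore_normal 2
  obtain ⟨k, hk⟩ := IsPGroup.iff_card.1 (Lib.Cores.pCore_isPGroup (G := C) 2)
  have hd : 2 ^ k ∣ Nat.card C := by rw [← hk]; exact card_subgroup_dvd_card _
  rw [hk] at hmod
  have h63 : 63 ∣ Nat.card C := by
    have := Nat.Coprime.mul_dvd_of_dvd_of_dvd (by norm_num : Nat.Coprime 9 7) h9 h7
    simpa using this
  have hdd : 2 ^ k * 63 ∣ Nat.card C :=
    Nat.Coprime.mul_dvd_of_dvd_of_dvd (Nat.Coprime.pow_left k (by norm_num)) hd h63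
  have h6 := (Nat.le_of_dvd Nat.card_pos hdd).trans hle
  have hk3 : k ≤ 3 := by
    by_contra h
    push Not at h
    have : 2 ^ 4 ≤ 2 ^ k := Nat.pow_le_pow_right (by norm_num) h
    omega
  have hk0 : k = 0 ∨ k = 3 := by
    unfold Nat.ModEq at hmod
    interval_cases k <;> omega
  rcases hk0 with hk0 | hk0
  · rw [hk0, pow_zero] at hk
    exact Subgroup.card_eq_one.1 hk
  · exfalso
    rw [hk0] at hk hdd
    have hcard : Nat.card C = 504 := by
      have := Nat.le_of_dvd Nat.card_pos hdd
      omega
    have hidx : (pCore 2 C).index = 63 := by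
      have h := (pCore 2 C).card_mul_index
      rw [hk, hcard] at h
      omega
    have c1 := commute_of_pcomp ok_t1 ok3 (by decide +kernel)
    have c2 := commute_of_pcomp ok_t2 ok3 (by decide +kernel)
    have key : ∀ (t : ℕ) (ht : ok t = true) (hc : el t * el c3 = el c3 * el t), Nat.beq (ppow t 2) idP = true →
        (⟨el t, mem_centralizer_singleton_iff.2 hc⟩ : C) ∈ pCore 2 C := by
      intro t ht hc h2
      have h := Subgroup.pow_index_mem (pCore 2 C) (⟨el t, mem_centralizer_singleton_iff.2 hc⟩ : C)
      rw [hidx] at h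
      have h3 : (⟨el t, mem_centralizer_singleton_iff.2 hc⟩ : C) ^ 63 = ⟨el t, mem_centralizer_singleton_iff.2 hc⟩ := by
        apply Subtype.ext
        show (el t) ^ 63 = el t
        have h4 := el_pow_eq_one ht h2
        rw [show 63 = 2 * 31 + 1 by norm_num, pow_succ, pow_mul, h4, one_pow, one_mul]
      rwa [h3] at h
    have h1 := mul_mem (key t1 ok_t1 c1 (by decide +kernel)) (key t2 ok_t2 c2 (by decide +kernel))
    have h2 : (el t1 * el t2) ^ 8 = 1 := by
      have h3 : (⟨_, h1⟩ : pCore 2 C) ^ 2 ^ 3 = 1 := by rw [← hk]; exact pow_card_eq_one'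
      have h4 := congrArg (fun x : pCore 2 C => ((x : C) : M24)) h3
      exact h4
    have h12 : el t1 * el t2 = el (pcomp t1 t2) := (el_pcomp ok_t1 ok_t2).symm
    have hok := ok_pcomp ok_t1 ok_t2
    have h3 : (el t1 * el t2) ^ 3 = 1 := by
      rw [h12]
      exact el_pow_eq_one hok (by decide +kernel)
    have h4 : el t1 * el t2 = 1 := by
      have h5 : (el t1 * el t2) ^ 9 = 1 := by rw [show 9 = 3 * 3 by norm_num, pow_mul, h3, one_pow]
      rw [show 9 = 8 + 1 by norm_num, pow_succ, h2, one_mul] at h5
      exact h5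
    rw [h12] at h4
    exact el_ne_one hok 0 (by norm_num) (by decide +kernel) h4

/-- the 2-core of a centralizer is invariant under conjugation -/
theorem core_conj {G : Type*} [Group G] {w v c : G} (h : c * w * c⁻¹ = v)
    (hv : pCore 2 (centralizer ({v} : Set G)) = ⊥) : pCore 2 (centralizer ({w} : Set G)) = ⊥ := by
  subst h
  have e : centralizer ({c * w * c⁻¹} : Set G) ≃* centralizer ({w} : Set G) :=
    { toFun := fun x => ⟨c⁻¹ * x * c, by
        have h := mem_centralizer_singleton_iff.1 x.2
        rw [mem_centralizer_singleton_iff]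
        calc c⁻¹ * x * c * w = c⁻¹ * (x * (c * w * c⁻¹)) * c := by group
          _ = c⁻¹ * ((c * w * c⁻¹) * x) * c := by rw [h]
          _ = w * (c⁻¹ * x * c) := by group⟩
      invFun := fun x => ⟨c * x * c⁻¹, by
        have h := mem_centralizer_singleton_iff.1 x.2
        rw [mem_centralizer_singleton_iff]
        calc c * x * c⁻¹ * (c * w * c⁻¹) = c * (x * w) * c⁻¹ := by group
          _ = c * (w * x) * c⁻¹ := by rw [h]
          _ = c * w * c⁻¹ * (c * x * c⁻¹) := by group⟩
      left_inv := fun x => Subtype.ext (by show c * (c⁻¹ * x * c) * c⁻¹ = x; group)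
      right_inv := fun x => Subtype.ext (by show c⁻¹ * (c * x * c⁻¹) * c = x; group)
      map_mul' := fun x y => Subtype.ext (by show c⁻¹ * (x * y) * c = c⁻¹ * x * c * (c⁻¹ * y * c); group) }
  have h1 : (pCore 2 (centralizer ({w} : Set G))).map e.symm.toMonoidHom ≤ pCore 2 (centralizer ({c * w * c⁻¹} : Set G)) :=
    Lib.Cores.le_pCore ((Lib.Cores.pCore_normal 2).map _ e.symm.surjective) ((Lib.Cores.pCore_isPGroup 2).map _)
  rw [hv, le_bot_iff, Subgroup.map_eq_bot_iff_of_injective _ e.symm.injective] at h1
  exact h1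

/-- **`O_2(C(w)) = 1` for the elements of order 3.** -/
theorem core_three {w : M24} (hw : orderOf w = 3) : pCore 2 (centralizer ({w} : Set M24)) = ⊥ := by
  obtain ⟨c, h | h⟩ := H865.Three.conj_of_orderOf hw
  · exact core_conj h core_A
  · have h1 : el gB * el H865.Three.B = el c3 * el gB := by
      rw [← el_pcomp ok_gB H865.Three.okB, ← el_pcomp ok3 ok_gB]
      exact congrArg el (Nat.eq_of_beq_eq_true (by decide +kernel))
    refine core_conj (c := el gB * c) (v := el c3) ?_ core_c3
    rw [mul_inv_rev, show el gB * c * w * (c⁻¹ * (el gB)⁻¹) = el gB * (c * w * c⁻¹) * (el gB)⁻¹ by group, h, h1]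
    group

end Cfsg.Agent.H35.M24Two
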