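import Cfsg.Agent.H729.MData
import Cfsg.Agent.H865.Three
import Cfsg.Agent.H860.Two24Data

/-!
# Centralizers in `M24`: data (helper35)

Data for the kernel searches of `H729.Trans`: elements of type 4B, 4C, 8A, of order 15 and 21, and the elements of type 3A
with four fixed points.
-/

set_option autoImplicit false
set_option Elab.async false

namespace Cfsg.Agent.H35.M24Two

open Cfsg.Agent.H729.Trans Cfsg.Agent.H729.MData
open Cfsg.Agent.SporadicStructure.M24El Cfsg.Agent.SporadicA.GolayPerm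

/-- `4B` -/
def c4B : ℕ := 96310212413581064753222024698479671

def b4B : ℕ := 10

def wd4B : List (ℕ × ℕ) := [(5, 2), (6, 0), (5, 0), (8, 1), (4, 0), (7, 0), (1, 1), (3, 0), (1, 3), (2, 3), (0, 0), (2, 2), (0, 2), (1, 2), (8, 0), (0, 1), (2, 0), (5, 1), (9, 0), (2, 1), (3, 1), (1, 0), (0, 3), (5, 3)]

def st4B : List (ℕ × List ℕ × List (List (ℕ × ℕ))) := [(10, [10], []),
  (21, List.range 24, [[(1, 1), (1, 3), (0, 0), (0, 2), (1, 2), (0, 1), (1, 0), (0, 3)]]),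
  (16, List.range 24, [[(1, 1), (1, 3), (2, 3), (2, 2), (0, 1), (2, 0), (2, 1), (0, 3)]]),
  (7, List.range 24, [[(1, 1), (3, 0), (2, 3), (0, 0), (0, 1), (2, 1), (3, 1), (1, 0)]]),
  (4, List.range 24, [[(4, 0), (1, 1), (3, 0), (1, 2), (2, 0), (2, 1), (1, 0), (0, 3)]]),
  (2, List.range 24, [[(5, 2), (4, 0), (1, 1), (1, 2), (0, 1), (3, 1), (1, 0), (5, 3)], [(5, 0), (4, 0), (1, 3), (1, 2), (5, 1), (3, 1), (1, 0), (0, 3)], [(5, 2), (5, 0), (2, 3), (1, 2), (0, 1), (2, 1), (1, 0), (0, 3)]]),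
  (1, List.range 24, [[(5, 2), (6, 0), (5, 0), (4, 0), (1, 2), (2, 0), (0, 3), (5, 3)]]),
  (5, List.range 24, [[(6, 0), (5, 0), (7, 0), (1, 2), (2, 0), (5, 1), (2, 1), (1, 0)]]),
  (14, List.range 24, [[(5, 2), (5, 0), (1, 2), (8, 0), (0, 1), (2, 0), (5, 1), (3, 1)], [(5, 2), (8, 1), (1, 2), (8, 0), (2, 0), (2, 1), (1, 0), (5, 3)]]),
  (18, List.range 24, [[(5, 2), (6, 0), (1, 2), (0, 1), (5, 1), (9, 0), (2, 1), (5, 3)]])]

/-- `4C` -/
def c4C : ℕ := 810336946202725104749676362684052599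

def b4C : ℕ := 10

def wd4C : List (ℕ × ℕ) := [(4, 3), (5, 3), (3, 1), (5, 0), (4, 2), (2, 3), (0, 2), (1, 1), (3, 0), (2, 2), (0, 0), (5, 2), (2, 1), (3, 2), (1, 0), (0, 3), (1, 3), (0, 1), (2, 0), (4, 1), (5, 1), (3, 3), (1, 2), (4, 0)]

def st4C : List (ℕ × List ℕ × List (List (ℕ × ℕ))) := [(10, [10], []),
  (14, List.range 24, [[(0, 2), (1, 1), (0, 0), (1, 0), (0, 3), (1, 3), (0, 1), (1, 2)]]),
  (18, List.range 24, []),
  (8, List.range 24, [[(3, 1), (0, 2), (1, 1), (3, 2), (0, 3), (0, 1), (2, 0), (3, 3)], [(2, 3), (0, 2), (3, 0), (1, 3), (0, 1), (2, 0), (3, 3), (1, 2)], [(2, 3), (0, 2), (2, 2), (3, 2), (1, 0), (0, 3), (1, 3), (3, 3)]]),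
  (23, List.range 24, [[(3, 1), (4, 2), (0, 3), (1, 3), (0, 1), (2, 0), (4, 1), (1, 2)], [(4, 3), (3, 1), (2, 3), (0, 3), (1, 3), (2, 0), (3, 3), (4, 0)], [(0, 2), (1, 0), (0, 3), (2, 0), (4, 1), (3, 3), (1, 2), (4, 0)]]),
  (3, List.range 24, [[(4, 3), (5, 3), (3, 2), (0, 3), (0, 1), (2, 0), (4, 1), (4, 0)], [(4, 3), (3, 1), (3, 2), (1, 0), (0, 3), (1, 3), (0, 1), (5, 1)], [(4, 3), (5, 0), (3, 2), (1, 0), (1, 3), (4, 1), (3, 3), (4, 0)]])]

/-- `8A` -/
def c8A : ℕ := 353784152154062902200513407373431981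

def b8A : ℕ := 19

def wd8A : List (ℕ × ℕ) := [(1, 2), (4, 1), (1, 6), (2, 3), (5, 0), (4, 0), (1, 1), (2, 2), (1, 5), (0, 4), (0, 7), (0, 2), (0, 3), (1, 3), (2, 1), (0, 1), (0, 6), (1, 0), (3, 0), (0, 0), (2, 0), (1, 7), (0, 5), (1, 4)]

def st8A : List (ℕ × List ℕ × List (List (ℕ × ℕ))) := [(19, [19], []),
  (17, List.range 24, [[(1, 2), (1, 6), (1, 1), (1, 5), (0, 1), (1, 0), (0, 5), (1, 4)], [(1, 2), (1, 6), (0, 4), (1, 3), (0, 1), (0, 0), (1, 7), (0, 5)], [(1, 6), (1, 1), (0, 7), (1, 3), (0, 1), (0, 6), (0, 0), (1, 4)]]),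
  (20, List.range 24, [[(1, 2), (1, 6), (1, 3), (2, 1), (0, 1), (0, 6), (1, 0), (2, 0)], [(1, 2), (2, 3), (1, 3), (2, 1), (0, 6), (0, 0), (1, 7), (1, 4)], [(1, 2), (2, 2), (0, 1), (0, 6), (0, 0), (2, 0), (0, 5), (1, 4)]]),
  (18, List.range 24, [[(1, 1), (2, 1), (0, 1), (3, 0), (0, 0), (1, 7), (0, 5), (1, 4)]]),
  (5, List.range 24, [[(1, 2), (4, 1), (1, 3), (0, 1), (1, 0), (3, 0), (0, 0), (1, 4)], [(4, 0), (1, 3), (2, 1), (1, 0), (3, 0), (2, 0), (1, 7), (1, 4)]]),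
  (4, List.range 24, [[(1, 2), (5, 0), (1, 3), (2, 1), (3, 0), (0, 0), (2, 0), (0, 5)]])]

def c15 : ℕ := 790129692085304596803062192714059496

def wd15 : List (ℕ × ℕ) := [(1, 3), (2, 2), (3, 0), (3, 1), (1, 12), (1, 5), (1, 11), (1, 7), (1, 4), (3, 2), (1, 14), (1, 0), (2, 1), (2, 0), (1, 9), (1, 8), (1, 6), (1, 13), (0, 0), (2, 4), (1, 10), (1, 1), (1, 2), (2, 3)]

def st15 : List (ℕ × List ℕ × List (List (ℕ × ℕ))) := [(18, List.range 24, []),
  (11, List.range 24, [[(1, 3), (1, 12), (1, 5), (1, 11), (1, 9), (1, 8), (1, 13), (0, 0)], [(1, 12), (1, 5), (1, 7), (1, 8), (1, 6), (1, 13), (1, 10), (1, 1)]]),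
  (13, List.range 24, [[(1, 3), (2, 2), (2, 0), (1, 8), (1, 13), (0, 0), (2, 4), (2, 3)], [(1, 3), (1, 12), (2, 0), (1, 9), (0, 0), (2, 4), (1, 10), (1, 2)]]),
  (2, List.range 24, [[(1, 3), (3, 0), (2, 0), (1, 9), (1, 8), (1, 6), (1, 13), (1, 10)], [(1, 3), (3, 1), (2, 0), (1, 9), (1, 6), (2, 4), (1, 1), (2, 3)]])]

def c21 : ℕ := 22378450299057375559147361312380641

def wd21 : List (ℕ × ℕ) := [(0, 0), (0, 1), (1, 16), (1, 1), (1, 0), (1, 17), (1, 4), (1, 20), (1, 5), (1, 11), (1, 10), (1, 8), (1, 9), (1, 12), (1, 13), (1, 7), (1, 15), (1, 3), (1, 14), (1, 6), (1, 18), (1, 19), (1, 2), (0, 2)]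

def st21 : List (ℕ × List ℕ × List (List (ℕ × ℕ))) := [(0, List.range 24, []),
  (4, List.range 24, [[(0, 0), (0, 1), (1, 12), (1, 7), (1, 3), (1, 14), (1, 6), (0, 2)], [(0, 0), (1, 16), (1, 12), (1, 13), (1, 7), (1, 15), (1, 3), (1, 18)]])]

/-- four fixed points of `A` -/
def f4 : List ℕ := [23, 18, 12, 19]

def wdA : List (ℕ × ℕ) := [(6, 0), (11, 0), (5, 2), (5, 0), (10, 1), (4, 2), (7, 2), (10, 2), (8, 1), (5, 1), (8, 2), (4, 0), (2, 0), (9, 0), (8, 0), (6, 2), (7, 0), (6, 1), (1, 0), (3, 0), (4, 1), (7, 1), (10, 0), (0, 0)]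

def stA : List (ℕ × List ℕ × List (List (ℕ × ℕ))) := [(23, [23], []),
  (18, [18], []),
  (12, [12], []),
  (19, [19], []),
  (11, List.range 24, []),
  (3, List.range 24, [[(5, 2), (5, 0), (4, 2), (5, 1), (4, 0), (1, 0), (4, 1), (0, 0)]]),
  (0, List.range 24, [[(6, 0), (5, 2), (5, 0), (5, 1), (2, 0), (6, 2), (6, 1), (1, 0)]]),
  (16, List.range 24, [[(5, 2), (5, 0), (6, 2), (6, 1), (3, 0), (4, 1), (7, 1), (0, 0)], [(6, 0), (5, 2), (4, 2), (6, 2), (7, 0), (1, 0), (7, 1), (0, 0)], [(7, 2), (5, 1), (6, 2), (7, 0), (6, 1), (1, 0), (4, 1), (0, 0)]]),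
  (14, List.range 24, [[(6, 0), (5, 2), (8, 1), (8, 0), (6, 1), (1, 0), (3, 0), (7, 1)], [(6, 0), (7, 2), (8, 2), (8, 0), (6, 1), (3, 0), (4, 1), (0, 0)]]),
  (13, List.range 24, [[(6, 0), (5, 2), (9, 0), (8, 0), (6, 2), (7, 0), (6, 1), (4, 1)]]),
  (22, List.range 24, [[(6, 0), (10, 1), (9, 0), (8, 0), (1, 0), (3, 0), (4, 1), (10, 0)], [(7, 2), (8, 0), (6, 2), (1, 0), (3, 0), (7, 1), (10, 0), (0, 0)], [(6, 0), (10, 2), (6, 2), (7, 0), (3, 0), (4, 1), (10, 0), (0, 0)]]),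
  (1, List.range 24, [[(6, 0), (11, 0), (9, 0), (6, 2), (6, 1), (1, 0), (3, 0), (0, 0)]])]

/-- of order 5, commutes with `A` -/
def z5 : ℕ := 809011347694544302585500633340676846

/-- of order 7, commutes with `c3` -/
def z7 : ℕ := 962457552832298894041479616745515040

def t1 : ℕ := 716638546562224766199225499769853098

def t2 : ℕ := 845481285522294293922203519358668070

def gB : ℕ := 431293203890022389210941043537019401

/-- elements of order 3 commuting with the involutions and with 4A -/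
def y1 : ℕ := 521384194609701815420203968552376904

def y2 : ℕ := 605328644106687768454818119562081003

def y3 : ℕ := 961440173591516095842784107582571561

/-- a group of order 9 commuting with `c3` -/
def l9 : List ℕ := [15909574972934138282974354882288353, 44673570877212604306017735907225623,
  194859099978126088992212405072497231, 294066496778693743717192061303566803, 597325191556486546106087559263443559,
  639106356860279406557576886082525330, 750947399282518330768201867326960100, 818217916752282422792396010317056238,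
  984818244535754528103549039458486304]

theorem pre4B : pre 4 c4B wd4B st4B = true := by decide +kernel
theorem len4B : (tl 4 c4B c4B wd4B st4B).length = 8 := by decide +kernel

theorem pre4C : pre 4 c4C wd4C st4C = true := by decide +kernel
theorem len4C : (tl 4 c4C c4C wd4C st4C).length = 4 := by decide +kernel

theorem pre8A : pre 8 c8A wd8A st8A = true := by decide +kernel
theorem len8A : (tl 8 c8A c8A wd8A st8A).length = 1 := by decide +kernel

theorem pre15 : pre 15 c15 wd15 st15 = true := by decide +kernel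
theorem all15 : ((tl 15 c15 c15 wd15 st15).all fun P => Nat.beq (ppow P 15) idP) = true := by decide +kernel

theorem pre21 : pre 21 c21 wd21 st21 = true := by decide +kernel
theorem all21 : ((tl 21 c21 c21 wd21 st21).all fun P => Nat.beq (ppow P 21) idP) = true := by decide +kernel

theorem preA : pre 3 Cfsg.Agent.H865.Three.A wdA stA = true := by decide +kernel
theorem lenA : (tl 3 Cfsg.Agent.H865.Three.A Cfsg.Agent.H865.Three.A wdA stA).length = 3 := by decide +kernel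

end Cfsg.Agent.H35.M24Two
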