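import Cfsg.Agent.H35.M24Two.Cent
import Cfsg.Agent.H509.WeakBlock
import Cfsg.Agent.H860.Two24
import Cfsg.Agent.KFacts.M24Two.Out
import Cfsg.Agent.S1643

/-!
# S4095 at the prime 2: the row of `M24` (helper35)
-/

set_option autoImplicit false
set_option linter.unusedSectionVars false

namespace Cfsg.Agent.H35.M24Two

open Cfsg Subgroup
open Cfsg.Agent.SporadicA.GolayBase Cfsg.Agent.SporadicA.GolayPerm
open Cfsg.Agent.SporadicStructure.M24El Cfsg.Agent.H729.Trans Cfsg.Agent.H729.MData Cfsg.Agent.H729.Count
open Cfsg.Agent.H729.M24Deg Cfsg.Agent.H509.Weak Cfsg.Agent.H516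

universe u

/-- the subgroup `23:11` -/
def Q253 : Subgroup M24 := SporadicStructure.Affine23.K.subgroupOf M24

theorem card_Q253 : Nat.card Q253 = 253 := by
  rw [← SporadicStructure.Affine23.card_K]
  exact Nat.card_congr (subgroupOfEquivOfLe S1643.K_le_M24).toEquiv

theorem card_small {p c : ℕ} (hp : p.Prime) (hd : ¬ p ^ 2 ∣ Nat.card M24) (ho : orderOf (el c) = p) {n : ℕ}
    (hn : Nat.card (centralizer ({el c} : Set M24)) ≤ n) {w : M24} (hw : orderOf w = p) :
    Nat.card (centralizer ({w} : Set M24)) ≤ n := by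
  rw [H729.PairBase.card_cent_of_one hp hd ho hw]
  exact hn

def st7 : List (ℕ × List ℕ × List (List (ℕ × ℕ))) := [(0, List.range 24, []),
  (17, List.range 24, []),
  (23, List.range 24, []),
  (1, List.range 24, [[(0, 0), (3, 0), (3, 3), (3, 4), (3, 2), (3, 6), (3, 1), (3, 5)]]),
  (2, List.range 24, [[(0, 0), (3, 0), (3, 3), (4, 3), (4, 4), (4, 6), (3, 1), (1, 0)]]),
  (7, List.range 24, [[(0, 0), (5, 2), (4, 1), (1, 0), (5, 4), (5, 6), (3, 5), (5, 3)]])]

theorem pre7 : pre 7 cM7 wdM7 st7 = true := by decide +kernel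
theorem len7 : (tl 7 cM7 cM7 wdM7 st7).length = 42 := by decide +kernel

theorem len23 : (tl 23 c23 c23 wd23 st23).length = 23 := by decide +kernel

theorem prime_cases {q : ℕ} (h1 : q.Prime) (h2 : q ∣ Nat.card M24) :
    q = 2 ∨ q = 3 ∨ q = 5 ∨ q = 7 ∨ q = 11 ∨ q = 23 := by
  rw [card_M24, show 244823040 = 2 ^ 10 * 3 ^ 3 * 5 * 7 * 11 * 23 by norm_num] at h2
  have key : ∀ r : ℕ, r.Prime → ∀ k, q ∣ r ^ k → q = r := fun r hr k h =>
    (Nat.prime_dvd_prime_iff_eq h1 hr).1 (h1.dvd_of_dvd_pow h)
  rcases (Nat.Prime.dvd_mul h1).1 h2 with h2 | h2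
  · rcases (Nat.Prime.dvd_mul h1).1 h2 with h2 | h2
    · rcases (Nat.Prime.dvd_mul h1).1 h2 with h2 | h2
      · rcases (Nat.Prime.dvd_mul h1).1 h2 with h2 | h2
        · rcases (Nat.Prime.dvd_mul h1).1 h2 with h2 | h2
          · exact Or.inl (key 2 (by norm_num) 10 h2)
          · exact Or.inr (Or.inl (key 3 (by norm_num) 3 h2))
        · exact Or.inr (Or.inr (Or.inl (key 5 (by norm_num) 1 (by rw [pow_one]; exact h2))))
      · exact Or.inr (Or.inr (Or.inr (Or.inl (key 7 (by norm_num) 1 (by rw [pow_one]; exact h2)))))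
    · exact Or.inr (Or.inr (Or.inr (Or.inr (Or.inl (key 11 (by norm_num) 1 (by rw [pow_one]; exact h2))))))
  · exact Or.inr (Or.inr (Or.inr (Or.inr (Or.inr (key 23 (by norm_num) 1 (by rw [pow_one]; exact h2))))))

theorem factA_M24 : FactA M24 := by
  refine ⟨Q253, by rw [card_Q253]; decide, fun w hw hw2 => ?_⟩
  rw [card_Q253]
  rcases prime_cases hw (orderOf_dvd_natCard w) with h | h | h | h | h | h
  · exact absurd h hw2
  · exact Or.inl (core_three h)
  · right
    have := card_small (n := 60) p5 (by rw [card_M24]; norm_num) o5 (by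
      have h1 := card_cent_le (MonoidHom.id M24) Function.injective_id pre5 (x := el c5) rfl
        (fun g => st_triv (by decide +kernel) g)
      rwa [len5] at h1) h
    omega
  · right
    have p7 : Nat.Prime 7 := by norm_num
    have o7 : orderOf (el cM7) = 7 :=
      orderOf_el p7 (ok_of_pre pre7) (by decide +kernel) 1 (by norm_num) (by decide +kernel)
    have := card_small (n := 42) p7 (by rw [card_M24]; norm_num) o7 (by
      have h1 := card_cent_le (MonoidHom.id M24) Function.injective_id pre7 (x := el cM7) rfl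
        (fun g => st_triv (by decide +kernel) g)
      rwa [len7] at h1) h
    omega
  · right
    have := H729.PairMathieu.card_cent_eleven h
    omega
  · right
    have := card_small (n := 23) p23 (by rw [card_M24]; norm_num) o23 (by
      have h1 := card_cent_le (MonoidHom.id M24) Function.injective_id pre23 (x := el c23) rfl
        (fun g => st_triv (by decide +kernel) g)
      rwa [len23] at h1) h
    omega

/-- isomorphic centralizers -/
noncomputable def centIso {L M : Type*} [Group L] [Group M] (e : L ≃* M) (y : L) :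
    ↥(centralizer ({y} : Set L)) ≃* ↥(centralizer ({e y} : Set M)) :=
  (e.subgroupMap (centralizer ({y} : Set L))).trans (MulEquiv.subgroupCongr (by
    ext g
    rw [mem_centralizer_singleton_iff]
    constructor
    · rintro ⟨s, hs, rfl⟩
      have h1 := mem_centralizer_singleton_iff.1 hs
      change e s * e y = e y * e s
      rw [← map_mul, ← map_mul, h1]
    · intro h
      refine ⟨e.symm g, ?_, e.apply_symm_apply g⟩
      change e.symm g ∈ centralizer ({y} : Set L)
      rw [mem_centralizer_singleton_iff]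
      apply e.injective
      rw [map_mul, map_mul, e.apply_symm_apply]
      exact h))

theorem factA_of_iso {L M : Type*} [Group L] [Group M] (e : L ≃* M) (h : FactA M) : FactA L := by
  obtain ⟨Q, hQ, hall⟩ := h
  have hc : Nat.card (Q.map e.symm.toMonoidHom) = Nat.card Q :=
    (Nat.card_congr (e.symm.subgroupMap Q).toEquiv).symm
  refine ⟨Q.map e.symm.toMonoidHom, by rw [hc]; exact hQ, fun w hw hw2 => ?_⟩
  rw [hc]
  have ho : orderOf (e w) = orderOf w := MulEquiv.orderOf_eq e w
  rcases hall (e w) (by rw [ho]; exact hw) (by rw [ho]; exact hw2) with h1 | h1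
  · exact Or.inl (pCore_equiv (centIso e w).symm h1)
  · right
    rw [Nat.card_congr (centIso e w).toEquiv]
    exact h1

section

variable {L : Type u} [Group L] [Finite L] {a : MulAut L} (W : Wk a) (e : L ≃* M24) {x : L} {n : ℕ}

include W e

theorem small (ha : a = MulAut.conj x) {c : M24} {P : ℕ} (hc : c * e x * c⁻¹ = el P)
    (hle : Nat.card (centralizer ({el P} : Set M24)) ≤ 252) : False := by
  have hQ : Nat.card (Q253.map e.symm.toMonoidHom) = 253 := by
    rw [← card_Q253]
    exact (Nat.card_congr (e.symm.subgroupMap Q253).toEquiv).symm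
  have h1 := W.card_le (Q := Q253.map e.symm.toMonoidHom) (by rw [hQ]; decide)
  rw [hQ] at h1
  have h2 : fixedSubgroup a ≤ centralizer ({x} : Set L) := by
    intro s hs
    rw [mem_centralizer_singleton_iff]
    have h3 : a s = s := hs
    rw [ha, MulAut.conj_apply, mul_inv_eq_iff_eq_mul] at h3
    exact h3.symm
  have h3 := Subgroup.card_le_of_le h2
  rw [Nat.card_congr (centIso e x).toEquiv, Nat.card_congr (centIso (MulAut.conj c) (e x)).toEquiv,
    MulAut.conj_apply, hc] at h3
  omega

theorem fixed (ha : a = MulAut.conj x) (hn : a ^ 2 ^ n = 1) {c : M24} {P y : ℕ} (hc : c * e x * c⁻¹ = el P)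
    (hy : orderOf (el y) = 3) (hcomm : el y * el P = el P * el y) : False := by
  obtain ⟨v, hv⟩ : ∃ v : M24, v = c⁻¹ * el y * c := ⟨_, rfl⟩
  have hvo : orderOf v = 3 := by
    rw [← hy, hv]
    have h1 : c⁻¹ * el y * c = MulAut.conj c⁻¹ (el y) := by rw [MulAut.conj_apply, inv_inv]
    rw [h1]
    exact MulEquiv.orderOf_eq _ _
  have hvx : v * e x = e x * v := by
    have h1 : e x = c⁻¹ * el P * c := by rw [← hc]; group
    rw [h1, hv]
    calc c⁻¹ * el y * c * (c⁻¹ * el P * c) = c⁻¹ * (el y * el P) * c := by group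
      _ = c⁻¹ * (el P * el y) * c := by rw [hcomm]
      _ = c⁻¹ * el P * c * (c⁻¹ * el y * c) := by group
  have hv1 : v ≠ 1 := by
    intro h
    rw [h, orderOf_one] at hvo
    norm_num at hvo
  refine W.false_of_fix hn (y := e.symm v) ?_ ?_ (pCore_equiv (centIso e.symm v) (core_three hvo))
  · intro h
    apply hv1
    rw [← e.apply_symm_apply v, h, map_one]
  · rw [ha, MulAut.conj_apply, mul_inv_eq_iff_eq_mul]
    apply e.injective
    rw [map_mul, map_mul, e.apply_symm_apply]
    exact hvx.symm

end

theorem ok_y1 : ok y1 = true := by decide +kernel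
theorem ok_y2 : ok y2 = true := by decide +kernel
theorem ok_y3 : ok y3 = true := by decide +kernel

/-- **S4095 at the prime 2 for `M24`.** -/
theorem row {L : Type u} [Group L] [Finite L] (h : Cfsg.Spor.IsoM24 L) (B : Base L) : Row 2 L := by
  rw [row_iff]
  intro a ha
  by_contra hne
  have W : Wk a := { B with bad := ha, ne := hne }
  obtain ⟨e⟩ := h
  obtain ⟨n, hn⟩ := W.two_of_factA (factA_of_iso e factA_M24)
  -- `a` is inner
  obtain ⟨x, hx⟩ : ∃ x : L, a = MulAut.conj x := by
    obtain ⟨k, hk⟩ := KFacts.M24Two.Out.exists_conj (MulAut.congr e a)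
    refine ⟨e.symm k, ?_⟩
    apply MulEquiv.ext
    intro s
    apply e.injective
    have h1 := congrArg (fun f : MulAut M24 => f (e s)) hk
    have h2 : (MulAut.congr e a) (e s) = e (a s) := by
      show e (a (e.symm (e s))) = _
      rw [e.symm_apply_apply]
    rw [MulAut.conj_apply, map_mul, map_mul, map_inv, e.apply_symm_apply]
    simp only [h2, MulAut.conj_apply] at h1
    exact h1
  have hx2 : (e x) ^ 2 ^ n = 1 := by
    rw [← map_pow]
    have h1 : x ^ 2 ^ n = 1 := by
      apply conj_injective W.center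
      rw [map_pow, ← hx, hn, map_one]
    rw [h1, map_one]
  obtain ⟨c, j, hc⟩ := H860.Two24.two_conj hx2
  have h1 : ∀ P : ℕ, c * e x * c⁻¹ = el P → el P = 1 → False := by
    intro P hP hP1
    rw [hP1] at hP
    have h2 : e x = 1 := by
      have h3 : e x = c⁻¹ * (c * e x * c⁻¹) * c := by group
      rw [h3, hP]
      group
    apply hne
    rw [hx, (map_eq_one_iff e e.injective).1 h2, map_one]
  rcases Nat.lt_or_ge j 7 with hj | hj
  · interval_cases j
    · exact h1 _ hc el_idP
    · exact fixed W e hx hn hc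
        (orderOf_el p3 ok_y1 (by decide +kernel) 0 (by norm_num) (by decide +kernel))
        (commute_of_pcomp ok_y1 (by decide +kernel) (by decide +kernel))
    · exact fixed W e hx hn hc
        (orderOf_el p3 ok_y2 (by decide +kernel) 0 (by norm_num) (by decide +kernel))
        (commute_of_pcomp ok_y2 (by decide +kernel) (by decide +kernel))
    · exact fixed W e hx hn hc
        (orderOf_el p3 ok_y3 (by decide +kernel) 0 (by norm_num) (by decide +kernel))
        (commute_of_pcomp ok_y3 (by decide +kernel) (by decide +kernel))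
    · exact small W e hx (P := c4B) hc (card_4B.trans (by norm_num))
    · exact small W e hx (P := c4C) hc (card_4C.trans (by norm_num))
    · exact small W e hx (P := c8A) hc (card_8A.trans (by norm_num))
  · rw [List.getD_eq_default _ _ (by exact hj)] at hc
    exact h1 _ hc el_idP

end Cfsg.Agent.H35.M24Two
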